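import Cfsg.Agent.Lib.Spor.HSType.Cert.Y4.Part0

/-!
The closing relation, case 4: the assembled checks.
-/

set_option autoImplicit false

namespace CfsgLib.Spor.HSType.Cert.Y4

open CfsgLib.Spor.TC

theorem steps_ok : cert.SStepsOK 0 1507 :=
  steps0

set_option maxRecDepth 100000 in
theorem trace : cert.sTraceOK 1507 target 0xbc6 = true := by decide +kernel

end CfsgLib.Spor.HSType.Cert.Y4
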